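import Mathlib
import Cfsg.Prelude.Def_Characters
import Cfsg.Agent.KFacts.RgdSyl
import Cfsg.Agent.Nodes.LeviDec

/-!
# Regular unipotent elements of groups with a root group datum (helper497, S4913)

`Reg cs h X u` : `u` lies in `U` and has a nontrivial component in every simple root group.

* `Reg.exists_reg` : they exist;
* `Reg.mem_PJ` : if `g⁻¹ * u * g ∈ P_J` then `g ∈ P_J`;
* `Reg.indFun_eq` : a class function `ψ` of `P_J` has `indFun (P_J) ψ u = ψ u`;
* `Reg.hom_eq` : a homomorphism on `P_J` which kills all positive root groups but `X_i` maps `u` to the image of an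
  element `≠ 1` of `X_i`.
-/

set_option autoImplicit false
set_option linter.unusedSectionVars false

namespace Cfsg.Agent.H497.Gow

open CoxeterSystem Cfsg.Agent.ChevalleyStructure.CoxeterGeom Cfsg.Agent.Tits.Roots Cfsg.Agent.Tits.Core
  Cfsg.Agent.Tits.Exchange Cfsg.Agent.Nodes.Reps Cfsg.Agent.Nodes.BNOf Cfsg.Agent.Nodes.StabComb
  Cfsg.Agent.Nodes.Bruhat Cfsg.Agent.Nodes.OppDec Cfsg.Agent.Nodes.LeviDec Cfsg.Agent.KFacts.RgdSyl

variable {I W Y : Type*} [Fintype I] [DecidableEq I] [Group W] [Group Y] {M : CoxeterMatrix I}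
  {cs : CoxeterSystem M W} {A : I → I → ℤ} {h : IsCartan M A} {p : ℕ} {T : Subgroup Y} {n : I → Y}
  {X : (I → ℤ) → Subgroup Y}

/-- regular unipotent elements of `U` -/
def Reg (cs : CoxeterSystem M W) (h : IsCartan M A) (X : (I → ℤ) → Subgroup Y) (u : Y) : Prop :=
  u ∈ RGD.Sup X (RGD.Pos cs h) ∧ ∀ i, u ∉ RGD.Sup X (RGD.PosNe cs h i)

variable (R : RGD cs h p T n X)

include R

/-- There are regular unipotent elements. -/
theorem exists_reg [Finite W] : ∃ u, Reg cs h X u := by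
  have key : ∀ s : Finset I, ∃ u ∈ RGD.Sup X (RGD.Pos cs h), ∀ i ∈ s, u ∉ RGD.Sup X (RGD.PosNe cs h i) := by
    intro s
    induction s using Finset.induction_on with
    | empty => exact ⟨1, one_mem _, fun i hi => absurd hi (Finset.notMem_empty i)⟩
    | insert j s hj ih =>
      obtain ⟨u, hu, hs⟩ := ih
      by_cases hV : u ∈ RGD.Sup X (RGD.PosNe cs h j)
      · obtain ⟨x, hx, hx1⟩ := exists_ne_one R j
        refine ⟨u * x, mul_mem hu (RGD.le_Sup (S := RGD.Pos cs h) ⟨isRoot_sr cs h j, sr_nonneg j⟩ hx), ?_⟩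
        intro i hi hm
        rcases Finset.mem_insert.1 hi with rfl | hi
        · exact hx1 (eq_one_of_mem_PosNe R hx ((mul_mem_cancel_left hV).1 hm))
        · have hij : sr j ≠ (sr i : I → ℤ) := by
            intro he
            have h1 := congrFun he j
            rw [sr_self] at h1
            by_cases hji : j = i
            · exact hj (hji ▸ hi)
            · rw [sr_ne hji] at h1
              exact absurd h1 (by decide)
          exact hs i hi ((mul_mem_cancel_right (RGD.le_Sup (S := RGD.PosNe cs h i)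
            ⟨isRoot_sr cs h j, sr_nonneg j, hij⟩ hx)).1 hm)
      · refine ⟨u, hu, fun i hi => ?_⟩
        rcases Finset.mem_insert.1 hi with rfl | hi
        · exact hV
        · exact hs i hi
  obtain ⟨u, hu, hs⟩ := key Finset.univ
  exact ⟨u, hu, fun i => hs i (Finset.mem_univ i)⟩

/-- `B` normalises `V_i` -/
theorem B_le_normalizer_V (i : I) : RGD.B cs h T X ≤ Subgroup.normalizer (RGD.Sup X (RGD.PosNe cs h i) : Set Y) := by
  refine sup_le (R.T_le_normalizer fun _ hx => hx.1) ?_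
  rw [R.Upos_eq i]
  exact sup_le (R.X_le_normalizer_V i) Subgroup.le_normalizer

theorem Reg.conj {u : Y} (hu : Reg cs h X u) {b : Y} (hb : b ∈ RGD.B cs h T X) : Reg cs h X (b⁻¹ * u * b) := by
  constructor
  · have h1 := (Subgroup.mem_normalizer_iff.1 (R.B_le_normalizer_U (inv_mem hb)) u).1 hu.1
    rwa [inv_inv] at h1
  · intro i hi
    have h1 := (Subgroup.mem_normalizer_iff.1 (B_le_normalizer_V R i hb) _).1 hi
    have h2 : b * (b⁻¹ * u * b) * b⁻¹ = u := by group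
    rw [h2] at h1
    exact hu.2 i h1

omit R in
theorem Reg.mem_U {u : Y} (hu : Reg cs h X u) : u ∈ RGD.Sup X (RGD.Pos cs h) := hu.1

omit R in
theorem Reg.mem_PJ_self {u : Y} (hu : Reg cs h X u) (J : Set I) : u ∈ PJ cs h T X J :=
  B_le_PJ (RGD.U_le_B hu.1)

theorem Reg.exists_pow [Finite W] {u : Y} (hu : Reg cs h X u) : ∃ k, u ^ p ^ k = 1 := by
  obtain ⟨k, hk⟩ := R.isPGroup_Upos ⟨u, hu.1⟩
  exact ⟨k, by simpa using congrArg Subtype.val hk⟩

/-- the order of a regular unipotent element is a power of `p` -/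
theorem Reg.orderOf_eq [Finite W] [hp : Fact p.Prime] {u : Y} (hu : Reg cs h X u) : ∃ k, orderOf u = p ^ k := by
  obtain ⟨k, hk⟩ := hu.exists_pow R
  obtain ⟨m, -, hm⟩ := (Nat.dvd_prime_pow hp.out).1 (orderOf_dvd_of_pow_eq_one hk)
  exact ⟨m, hm⟩

/-- the component of `u` in `X_i` -/
theorem Reg.decomp {u : Y} (hu : Reg cs h X u) (i : I) :
    ∃ v ∈ RGD.Sup X (RGD.PosNe cs h i), ∃ a ∈ X (sr i), a ≠ 1 ∧ u = v * a := by
  have h1 : u ∈ ((RGD.Sup X (RGD.PosNe cs h i) ⊔ X (sr i) : Subgroup Y) : Set Y) := by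
    rw [sup_comm, ← R.Upos_eq i]
    exact hu.1
  rw [Subgroup.coe_mul_of_right_le_normalizer_left _ _ (R.X_le_normalizer_V i), Set.mem_mul] at h1
  obtain ⟨v, hv, a, ha, e⟩ := h1
  refine ⟨v, hv, a, ha, ?_, e.symm⟩
  rintro rfl
  apply hu.2 i
  rw [← e, mul_one]
  exact hv

/-- the elements conjugating `U` into `B` over `w` -/
theorem exists_neg_of_ne_one {w : W} (hw : w ≠ 1) : ∃ i, rep cs h w⁻¹ (sr i) ≤ 0 := by
  by_contra hcon
  push Not at hcon
  apply hw
  have h1 : w⁻¹ = 1 := by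
    apply eq_one_of_nonneg cs h
    intro i
    by_contra h2
    exact hcon i (neg_nonneg.1 ((((isRoot_sr cs h i).act w⁻¹).not_nonneg_iff_neg).1 h2))
  exact inv_eq_one.1 h1

omit R in
theorem PW_le_PosNe {w : W} {i : I} (hi : rep cs h w⁻¹ (sr i) ≤ 0) :
    RGD.Sup X (PW cs h w⁻¹) ≤ RGD.Sup X (RGD.PosNe cs h i) := by
  refine RGD.Sup_mono fun x hx => ⟨hx.1, hx.2.1, ?_⟩
  rintro rfl
  exact ((isRoot_sr cs h i).act w⁻¹).not_pos_neg hx.2.2 hi

/-- A regular unipotent element lies in only one Borel subgroup. -/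
theorem Reg.mem_B [Finite W] (hG : GG cs h T X = ⊤) {u : Y} (hu : Reg cs h X u) {g : Y}
    (hg : g⁻¹ * u * g ∈ RGD.B cs h T X) : g ∈ RGD.B cs h T X := by
  obtain ⟨w, b₁, hb₁, k, hk, b₂, hb₂, rfl⟩ := (mem_GG R).1 (hG ▸ Subgroup.mem_top g)
  have hu' := hu.conj R hb₁
  have h1 : k⁻¹ * (b₁⁻¹ * u * b₁) * k ∈ RGD.B cs h T X := by
    have e : k⁻¹ * (b₁⁻¹ * u * b₁) * k = b₂ * ((b₁ * k * b₂)⁻¹ * u * (b₁ * k * b₂)) * b₂⁻¹ := by group
    rw [e]
    exact mul_mem (mul_mem hb₂ hg) (inv_mem hb₂)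
  have h2 := mem_PW_of_conj R hk hu'.1 h1
  have hw : w = 1 := by
    by_contra hw
    obtain ⟨i, hi⟩ := exists_neg_of_ne_one R hw
    exact hu'.2 i (PW_le_PosNe hi h2)
  subst hw
  exact mul_mem (mul_mem hb₁ (RGD.T_le_B hk.mem_of_one)) hb₂

/-- `p`-elements of `P_J` are conjugate in `P_J` to elements of `U` -/
theorem exists_conj_mem_U [Finite W] [Finite Y] [hp : Fact p.Prime] (hG : GG cs h T X = ⊤) {J : Set I} {y : Y}
    (hy : y ∈ PJ cs h T X J) {k : ℕ} (hk : y ^ p ^ k = 1) :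
    ∃ l ∈ PJ cs h T X J, l⁻¹ * y * l ∈ RGD.Sup X (RGD.Pos cs h) := by
  set P := PJ cs h T X J with hPdef
  set U := RGD.Sup X (RGD.Pos cs h) with hUdef
  have hUP : U ≤ P := le_trans RGD.U_le_B B_le_PJ
  have hi : ¬ p ∣ (U.subgroupOf P).index := by
    intro h1
    apply not_dvd_relIndex R
    rw [hG, Subgroup.relIndex_top_right]
    have h2 : U.relIndex P * P.index = U.index := Subgroup.relIndex_mul_index hUP
    rw [← hUdef, ← h2]
    exact Dvd.dvd.mul_right h1 _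
  let S : Sylow p P := (R.isPGroup_Upos.comap_of_injective P.subtype (Subgroup.subtype_injective _)).toSylow hi
  have hyP : IsPGroup p (Subgroup.zpowers (⟨y, hy⟩ : P)) := by
    refine IsPGroup.of_card (n := (orderOf (⟨y, hy⟩ : P)).factorization p) ?_
    rw [Nat.card_zpowers]
    have h1 : orderOf (⟨y, hy⟩ : P) ∣ p ^ k := by
      apply orderOf_dvd_of_pow_eq_one
      exact Subtype.ext (by simpa using hk)
    obtain ⟨m, -, hm⟩ := (Nat.dvd_prime_pow hp.out).1 h1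
    rw [hm, Nat.Prime.factorization_pow hp.out, Finsupp.single_eq_same]
  obtain ⟨Q, hQ⟩ := hyP.exists_le_sylow
  obtain ⟨l, hl⟩ := MulAction.exists_smul_eq P S Q
  have h1 : (⟨y, hy⟩ : P) ∈ ((l • S : Sylow p P) : Subgroup P) := by
    rw [hl]
    exact hQ (Subgroup.mem_zpowers _)
  rw [Sylow.coe_subgroup_smul, Subgroup.mem_pointwise_smul_iff_inv_smul_mem, MulAut.smul_def,
    MulAut.conj_inv_apply] at h1
  refine ⟨l, l.2, ?_⟩
  have h2 : ((l⁻¹ * ⟨y, hy⟩ * l : P) : Y) ∈ U := by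
    have h3 : (l⁻¹ * ⟨y, hy⟩ * l : P) ∈ (S : Subgroup P) := h1
    exact h3
  simpa using h2

/-- **If `g⁻¹ u g ∈ P_J` then `g ∈ P_J`.** -/
theorem Reg.mem_PJ [Finite W] [Finite Y] [hp : Fact p.Prime] (hG : GG cs h T X = ⊤) {J : Set I} {u : Y}
    (hu : Reg cs h X u) {g : Y} (hg : g⁻¹ * u * g ∈ PJ cs h T X J) : g ∈ PJ cs h T X J := by
  obtain ⟨k, hk⟩ := hu.exists_pow R
  have hk' : (g⁻¹ * u * g) ^ p ^ k = 1 := by
    have h1 := conj_pow (i := p ^ k) (a := g⁻¹) (b := u)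
    rw [inv_inv] at h1
    rw [h1, hk]; group
  obtain ⟨l, hl, hlU⟩ := exists_conj_mem_U R hG hg hk'
  have h1 : (g * l)⁻¹ * u * (g * l) ∈ RGD.B cs h T X := by
    have e : (g * l)⁻¹ * u * (g * l) = l⁻¹ * (g⁻¹ * u * g) * l := by group
    rw [e]
    exact RGD.U_le_B hlU
  have h2 : g * l ∈ PJ cs h T X J := B_le_PJ (hu.mem_B R hG h1)
  exact (mul_mem_cancel_right hl).1 h2

/-- the value of an induced class function at a regular unipotent element -/
theorem Reg.indFun_eq [Finite W] [Fintype Y] [hp : Fact p.Prime] (hG : GG cs h T X = ⊤) {J : Set I} {u : Y}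
    (hu : Reg cs h X u) {ψ : PJ cs h T X J → ℂ} (hψ : IsClassFunction (PJ cs h T X J) ψ) :
    indFun (PJ cs h T X J) ψ u = ψ ⟨u, hu.mem_PJ_self J⟩ := by
  classical
  have hcard : (Nat.card (PJ cs h T X J) : ℂ) ≠ 0 := by exact_mod_cast Nat.card_pos.ne'
  have h1 : ∑ x : Y, extendByZero (PJ cs h T X J) ψ (x⁻¹ * u * x) =
      ∑ x : Y, if x ∈ PJ cs h T X J then ψ ⟨u, hu.mem_PJ_self J⟩ else 0 := by
    refine Finset.sum_congr rfl fun x _ => ?_
    by_cases hx : x ∈ PJ cs h T X J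
    · rw [if_pos hx]
      have hm : x⁻¹ * u * x ∈ PJ cs h T X J :=
        mul_mem (mul_mem (inv_mem hx) (hu.mem_PJ_self J)) hx
      have e : x⁻¹ * u * x = ((⟨x⁻¹ * u * x, hm⟩ : PJ cs h T X J) : Y) := rfl
      rw [e, extendByZero, Subtype.val_injective.extend_apply]
      have h2 := hψ ⟨u, hu.mem_PJ_self J⟩ (⟨x, hx⟩ : PJ cs h T X J)⁻¹
      rw [← h2]
      congr 1
      apply Subtype.ext
      simp
    · rw [if_neg hx, extendByZero, Function.extend_apply']
      · rfl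
      · rintro ⟨a, ha⟩
        exact hx (hu.mem_PJ R hG (ha ▸ a.2))
  rw [indFun, h1, ← Finset.sum_filter, Finset.sum_const, nsmul_eq_mul]
  have h2 : (Finset.univ.filter (fun x : Y => x ∈ PJ cs h T X J)).card = Nat.card (PJ cs h T X J) := by
    rw [Nat.card_eq_fintype_card, Fintype.card_subtype]
  rw [h2, inv_mul_cancel_left₀ hcard]

/-- a homomorphism killing all positive root groups but `X_i` -/
theorem Reg.hom_eq {u : Y} (hu : Reg cs h X u) {J : Set I} {i : I} {Z : Type*} [Group Z]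
    (c : PJ cs h T X J →* Z) (hc : ∀ x ∈ RGD.PosNe cs h i, ∀ y : PJ cs h T X J, (y : Y) ∈ X x → c y = 1) :
    ∃ a : PJ cs h T X J, (a : Y) ∈ X (sr i) ∧ (a : Y) ≠ 1 ∧ c ⟨u, hu.mem_PJ_self J⟩ = c a := by
  obtain ⟨v, hv, a, ha, ha1, e⟩ := hu.decomp R i
  have haP : a ∈ PJ cs h T X J := B_le_PJ (RGD.X_le_B (isRoot_sr cs h i) (sr_nonneg i) ha)
  have hle : RGD.Sup X (RGD.PosNe cs h i) ≤ c.ker.map (PJ cs h T X J).subtype := by
    refine RGD.Sup_le fun x hx y hy => ?_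
    have hyP : y ∈ PJ cs h T X J := B_le_PJ (RGD.X_le_B hx.1 hx.2.1 hy)
    exact ⟨⟨y, hyP⟩, hc x hx ⟨y, hyP⟩ hy, rfl⟩
  obtain ⟨v', hv', e'⟩ := hle hv
  refine ⟨⟨a, haP⟩, ha, ha1, ?_⟩
  have h1 : (⟨u, hu.mem_PJ_self J⟩ : PJ cs h T X J) = v' * ⟨a, haP⟩ := by
    apply Subtype.ext
    rw [Subgroup.coe_mul]
    change u = (PJ cs h T X J).subtype v' * a
    rw [e', e]
  rw [h1, map_mul, MonoidHom.mem_ker.1 hv', one_mul]

end Cfsg.Agent.H497.Gow
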