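import Mathlib
import Cfsg.Agent.H53.HC.WPerm

/-!
# The double cosets of `W(E₇)` (helper497, S4913)

`J` = all nodes of `E₇` but the sixth (Bourbaki), of type `D₅ × A₁`: at most three minimal representatives of the double
cosets of `W_J` fix the simple root `α₇`.
-/

set_option autoImplicit false
set_option linter.unusedSectionVars false

namespace Cfsg.Agent.H497.Gow

open CoxeterSystem Cfsg.Agent.ChevalleyStructure.CoxeterGeom Cfsg.Agent.Tits.Roots Cfsg.Agent.Tits.Core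
  Cfsg.Agent.Tits.Exchange Cfsg.Agent.Nodes.Reps Cfsg.Agent.Nodes.BNOf Cfsg.Agent.Nodes.StabComb
  Cfsg.Agent.H53.HC

section general

variable {I W : Type*} [Fintype I] [DecidableEq I] [Group W] {M : CoxeterMatrix I}
  {cs : CoxeterSystem M W} {A : I → I → ℤ} {h : IsCartan M A}

/-- an element of `W_J` keeping the simple roots of `J` positive is trivial -/
theorem eq_one_of_mem_WJ {J : Set I} {v : W} (hv : v ∈ WJ cs J) (h1 : ∀ i ∈ J, 0 ≤ rep cs h v (sr i)) : v = 1 := by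
  refine Cfsg.Agent.H53.HC.eq_one_of_nonneg (cs := cs) (h := h) fun i => ?_
  by_cases hi : i ∈ J
  · exact h1 i hi
  · exact (NotJ.act hv (sr_mem_NotJ hi)).2.1

/-- Minimal representatives of the cosets of the stabiliser `W_J` of a dominant vector are determined by the images. -/
theorem min_unique [Finite W] {r : I → ℤ} (hr : Dom A r) {J : Set I} (hJ : ∀ i, pairing A i r = 0 → i ∈ J) {w w' : W}
    (h1 : ∀ i ∈ J, 0 ≤ rep cs h w (sr i)) (h2 : ∀ i ∈ J, 0 ≤ rep cs h w' (sr i))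
    (he : rep cs h w r = rep cs h w' r) : w = w' := by
  have h3 : rep cs h (w⁻¹ * w') r = r := by rw [rep_mul_apply, ← he, rep_inv_apply]
  have h4 : w⁻¹ * w' ∈ WJ cs J := by
    have h5 := mem_WJ_of_rep (h := h) hr h3
    have hsub : orth cs h r ⊆ J := fun i hi => hJ i (mem_orth.1 hi)
    exact Subgroup.closure_mono (Set.image_mono hsub) h5
  have h5 : w⁻¹ * w' = 1 := by
    refine eq_one_of_mem_WJ (h := h) h4 fun i hi => ?_
    by_contra h6
    have hroot : rep cs h (w⁻¹ * w') (sr i) ∈ RootsJ cs h J :=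
      RootsJ.act h4 (PosJ_subset J (sr_mem_PosJ hi))
    have h7 := hroot.1.not_nonneg_iff_neg.1 h6
    have h8 : 0 ≤ rep cs h w (-rep cs h (w⁻¹ * w') (sr i)) :=
      rep_nonneg_of_supp h1 h7 fun k hk => (RootsJ.neg hroot).2 k hk
    rw [map_neg, ← rep_mul_apply, mul_inv_cancel_left] at h8
    exact ((isRoot_sr cs h i).act w').not_pos_neg (h2 i hi) (neg_nonneg.1 h8)
  exact (inv_mul_eq_one.1 h5)

/-- the bilinear form of a symmetric matrix -/
def bf (A : I → I → ℤ) (x y : I → ℤ) : ℤ := ∑ k, x k * pairing A k y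

omit [DecidableEq I] in
theorem bf_add_left (x x' y : I → ℤ) : bf A (x + x') y = bf A x y + bf A x' y := by
  simp only [bf, Pi.add_apply, add_mul, Finset.sum_add_distrib]

omit [DecidableEq I] in
theorem bf_smul_left (c : ℤ) (x y : I → ℤ) : bf A (c • x) y = c * bf A x y := by
  simp only [bf, Pi.smul_apply, smul_eq_mul, Finset.mul_sum, mul_assoc]

omit [DecidableEq I] in
theorem bf_comm (hA : ∀ i j, A i j = A j i) (x y : I → ℤ) : bf A x y = bf A y x := by
  unfold bf pairing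
  simp only [Finset.mul_sum]
  rw [Finset.sum_comm]
  refine Finset.sum_congr rfl fun i _ => Finset.sum_congr rfl fun j _ => ?_
  rw [hA j i]; ring

theorem bf_sr_left (i : I) (y : I → ℤ) : bf A (sr i) y = pairing A i y := by
  unfold bf
  rw [Finset.sum_eq_single i (fun b _ hb => by rw [sr_ne hb, zero_mul]) (by simp), sr_self, one_mul]

theorem bf_simple (hA : ∀ i j, A i j = A j i) (i : I) (x y : I → ℤ) :
    bf A (rep cs h (cs.simple i) x) (rep cs h (cs.simple i) y) = bf A x y := by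
  have h0 : ∀ (c : ℤ) (x y : I → ℤ), bf A (x - c • sr i) y = bf A x y - c * pairing A i y := by
    intro c x y
    rw [sub_eq_add_neg, ← neg_smul, bf_add_left, bf_smul_left, bf_sr_left]; ring
  rw [rep_simple_eq, rep_simple_eq, h0, bf_comm hA x, h0, bf_comm hA y, sub_eq_add_neg y, pairing_add, ← neg_smul,
    pairing_smul, sr, pairing_single, h.diag]
  ring

theorem bf_rep (hA : ∀ i j, A i j = A j i) (w : W) (x y : I → ℤ) : bf A (rep cs h w x) (rep cs h w y) = bf A x y := by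
  obtain ⟨ω, rfl⟩ := cs.wordProd_surjective w
  induction ω with
  | nil => rw [wordProd_nil, map_one, Module.End.one_apply, Module.End.one_apply]
  | cons i ω ih => rw [wordProd_cons, rep_mul_apply, rep_mul_apply, bf_simple hA, ih]

end general

section seven

/-- the Coxeter matrix of `E₇` as a function -/
def m7 (i j : Fin 7) : ℕ := CoxeterMatrix.E₇ i j

theorem m7_cases : ∀ i j : Fin 7, i ≠ j → m7 i j = 2 ∨ m7 i j = 3 := by decide +kernel

variable {W : Type*} [Group W] {cs : CoxeterSystem CoxeterMatrix.E₇ W} {A : Fin 7 → Fin 7 → ℤ}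
  {h : IsCartan CoxeterMatrix.E₇ A}

theorem entry (h : IsCartan CoxeterMatrix.E₇ A) (i j : Fin 7) :
    A i j = if i = j then 2 else if m7 i j = 3 then -1 else 0 := by
  by_cases hij : i = j
  · subst hij; rw [if_pos rfl, h.diag]
  · rw [if_neg hij]
    have h0 : CoxeterMatrix.E₇ i j = m7 i j := rfl
    rcases m7_cases i j hij with h1 | h1
    · rw [if_neg (by omega)]
      rcases h.rel i j hij with ⟨-, h2, -⟩ | ⟨h2, -⟩ | ⟨h2, -⟩ | ⟨h2, -⟩
      · exact h2
      all_goals omega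
    · rw [if_pos h1]
      rcases h.rel i j hij with ⟨h2, -⟩ | ⟨-, h2, -⟩ | ⟨h2, -⟩ | ⟨h2, -⟩
      · omega
      · exact h2
      all_goals omega

/-- the entries as a function -/
def e7 (i j : Fin 7) : ℤ := if i = j then 2 else if m7 i j = 3 then -1 else 0

theorem A_eq (h : IsCartan CoxeterMatrix.E₇ A) : A = e7 := by
  funext i j
  exact entry h i j

theorem e7_symm : ∀ i j, e7 i j = e7 j i := by decide +kernel

/-- the rows -/
def row : Fin 7 → Fin 7 → ℤ :=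
  ![![2, 0, -1, 0, 0, 0, 0],
    ![0, 2, 0, -1, 0, 0, 0],
    ![-1, 0, 2, -1, 0, 0, 0],
    ![0, -1, -1, 2, -1, 0, 0],
    ![0, 0, 0, -1, 2, -1, 0],
    ![0, 0, 0, 0, -1, 2, -1],
    ![0, 0, 0, 0, 0, -1, 2]]

theorem e7_eq : ∀ i j, e7 i j = row i j := by decide +kernel

theorem e7_eq' : e7 = row := by funext i j; exact e7_eq i j

/-- `ω₆` -/
def om : Fin 7 → ℤ := ![2, 3, 4, 6, 5, 4, 2]

/-- `2 ω₁ - ω₆` -/
def om' : Fin 7 → ℤ := ![2, 1, 2, 2, 1, 0, 0]

theorem pairing_om (i : Fin 7) : pairing row i om = if i = 5 then 1 else 0 := by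
  revert i; decide +kernel

theorem bf_om (x : Fin 7 → ℤ) : bf row om x = x 5 := by
  rw [bf_comm (fun i j => by rw [← e7_eq, ← e7_eq, e7_symm])]
  unfold bf
  simp only [pairing_om, mul_ite, mul_one, mul_zero, Finset.sum_ite_eq', Finset.mem_univ, if_true]

theorem pairing_row (x : Fin 7 → ℤ) :
    pairing row 0 x = 2 * x 0 - x 2 ∧ pairing row 1 x = 2 * x 1 - x 3 ∧ pairing row 2 x = 2 * x 2 - x 0 - x 3 ∧
    pairing row 3 x = 2 * x 3 - x 1 - x 2 - x 4 ∧ pairing row 4 x = 2 * x 4 - x 3 - x 5 ∧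
    pairing row 5 x = 2 * x 5 - x 4 - x 6 ∧ pairing row 6 x = 2 * x 6 - x 5 := by
  simp only [pairing, Fin.sum_univ_seven]
  refine ⟨?_, ?_, ?_, ?_, ?_, ?_, ?_⟩ <;> simp [row] <;> ring

/-- the quadratic form is positive -/
theorem sos (a b c d e f g : ℤ) :
    12 * (a * (2 * a - c) + b * (2 * b - d) + c * (2 * c - a - d) + d * (2 * d - b - c - e) + e * (2 * e - d - f) +
      f * (2 * f - e - g) + g * (2 * g - f)) =
    6 * (2 * a - c) ^ 2 + 6 * (2 * b - d) ^ 2 + 6 * (2 * g - f) ^ 2 + 2 * (3 * c - 2 * d) ^ 2 +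
      2 * (3 * f - 2 * e) ^ 2 + (4 * e - 3 * d) ^ 2 + d ^ 2 := by
  ring

/-- the quadratic form -/
def qf (a b c d e f g : ℤ) : ℤ :=
  a * (2 * a - c) + b * (2 * b - d) + c * (2 * c - a - d) + d * (2 * d - b - c - e) + e * (2 * e - d - f) +
      f * (2 * f - e - g) + g * (2 * g - f)

theorem qf_nonneg (a b c d e f g : ℤ) : 0 ≤ qf a b c d e f g := by
  have h1 := sos a b c d e f g
  have h2 : 0 ≤ 6 * (2 * a - c) ^ 2 + 6 * (2 * b - d) ^ 2 + 6 * (2 * g - f) ^ 2 + 2 * (3 * c - 2 * d) ^ 2 +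
      2 * (3 * f - 2 * e) ^ 2 + (4 * e - 3 * d) ^ 2 + d ^ 2 := by positivity
  unfold qf
  omega

theorem bound (a b c d e f g : ℤ) (h : qf a b c d e f g = 4) :
    (2 * a - c ≤ 2) ∧ (2 * b - d ≤ 2) ∧ (2 * c - a - d ≤ 2) ∧ (2 * d - b - c - e ≤ 2) ∧ (2 * e - d - f ≤ 2) ∧
    (2 * f - e - g ≤ 2) ∧ (-2 ≤ 2 * f - e - g) := by
  have h0 := qf_nonneg (2 * a - 3) (2 * b) (2 * c) (2 * d) (2 * e) (2 * f) (2 * g)
  have h1 := qf_nonneg (2 * a) (2 * b - 3) (2 * c) (2 * d) (2 * e) (2 * f) (2 * g)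
  have h2 := qf_nonneg (2 * a) (2 * b) (2 * c - 3) (2 * d) (2 * e) (2 * f) (2 * g)
  have h3 := qf_nonneg (2 * a) (2 * b) (2 * c) (2 * d - 3) (2 * e) (2 * f) (2 * g)
  have h4 := qf_nonneg (2 * a) (2 * b) (2 * c) (2 * d) (2 * e - 3) (2 * f) (2 * g)
  have h5 := qf_nonneg (2 * a) (2 * b) (2 * c) (2 * d) (2 * e) (2 * f - 3) (2 * g)
  have h6 := qf_nonneg (2 * a) (2 * b) (2 * c) (2 * d) (2 * e) (2 * f + 3) (2 * g)
  unfold qf at h h0 h1 h2 h3 h4 h5 h6
  refine ⟨?_, ?_, ?_, ?_, ?_, ?_, ?_⟩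
  · have : 12 * (2 * a - c) ≤ 34 := by linarith
    omega
  · have : 12 * (2 * b - d) ≤ 34 := by linarith
    omega
  · have : 12 * (2 * c - a - d) ≤ 34 := by linarith
    omega
  · have : 12 * (2 * d - b - c - e) ≤ 34 := by linarith
    omega
  · have : 12 * (2 * e - d - f) ≤ 34 := by linarith
    omega
  · have : 12 * (2 * f - e - g) ≤ 34 := by linarith
    omega
  · have : -34 ≤ 12 * (2 * f - e - g) := by linarith
    omega

theorem cls (a b c d e f g : ℤ) (h : qf a b c d e f g = 4) (h0 : 0 ≤ 2 * a - c) (h0' : Even (2 * a - c))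
    (h1 : 0 ≤ 2 * b - d) (h1' : Even (2 * b - d)) (h2 : 0 ≤ 2 * c - a - d) (h2' : Even (2 * c - a - d))
    (h3 : 0 ≤ 2 * d - b - c - e) (h3' : Even (2 * d - b - c - e)) (h4 : 0 ≤ 2 * e - d - f)
    (h4' : Even (2 * e - d - f)) (h6 : 2 * g - f = 0) :
    (a = 2 ∧ b = 3 ∧ c = 4 ∧ d = 6 ∧ e = 5 ∧ f = 4 ∧ g = 2) ∨
    (a = -2 ∧ b = -3 ∧ c = -4 ∧ d = -6 ∧ e = -5 ∧ f = -4 ∧ g = -2) ∨
    (a = 2 ∧ b = 1 ∧ c = 2 ∧ d = 2 ∧ e = 1 ∧ f = 0 ∧ g = 0) := by
  obtain ⟨b0, b1, b2, b3, b4, b5, b5'⟩ := bound a b c d e f g h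
  have key : ∀ x : ℤ, 0 ≤ x → x ≤ 2 → Even x → x = 0 ∨ x = 2 := by
    rintro x hx hx' ⟨y, rfl⟩
    omega
  have k0 := key _ h0 b0 h0'
  have k1 := key _ h1 b1 h1'
  have k2 := key _ h2 b2 h2'
  have k3 := key _ h3 b3 h3'
  have k4 := key _ h4 b4 h4'
  have k5 : 2 * f - e - g = -2 ∨ 2 * f - e - g = -1 ∨ 2 * f - e - g = 0 ∨ 2 * f - e - g = 1 ∨ 2 * f - e - g = 2 := by
    omega
  unfold qf at h
  clear b0 b1 b2 b3 b4 b5 b5' h0 h0' h1 h1' h2 h2' h3 h3' h4 h4' key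
  rcases k0 with k0 | k0 <;> rcases k1 with k1 | k1 <;> rcases k2 with k2 | k2 <;> rcases k3 with k3 | k3 <;>
    rcases k4 with k4 | k4 <;> rcases k5 with k5 | k5 | k5 | k5 | k5 <;>
    (rw [k0, k1, k2, k3, k4, k5, h6] at h; omega)

theorem pairing_eq (h : IsCartan CoxeterMatrix.E₇ A) (i : Fin 7) (x : Fin 7 → ℤ) : pairing A i x = pairing row i x := by
  rw [A_eq h, e7_eq']

theorem bf_eq (h : IsCartan CoxeterMatrix.E₇ A) (x y : Fin 7 → ℤ) : bf A x y = bf row x y := by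
  rw [A_eq h, e7_eq']

theorem pairing_six (h : IsCartan CoxeterMatrix.E₇ A) (j : Fin 7) : pairing A j (sr 6) = row j 6 := by
  rw [sr, pairing_single, mul_one, A_eq h, e7_eq]

theorem symm (h : IsCartan CoxeterMatrix.E₇ A) (i j : Fin 7) : A i j = A j i := by
  rw [A_eq h, e7_symm]

theorem bf_sr_right (h : IsCartan CoxeterMatrix.E₇ A) (x : Fin 7 → ℤ) (i : Fin 7) : bf A x (sr i) = pairing A i x := by
  rw [bf_comm (symm h), bf_sr_left]

theorem dom_om (h : IsCartan CoxeterMatrix.E₇ A) : Dom A om := by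
  intro i
  rw [A_eq h, e7_eq', pairing_om]
  split_ifs <;> norm_num

/-- **the images of `ω₆`** -/
theorem rep_om (h : IsCartan CoxeterMatrix.E₇ A) {w : W} (h1 : ∀ i, i ≠ 5 → 0 ≤ rep cs h w⁻¹ (sr i))
    (h6 : rep cs h w (sr 6) = sr 6) : rep cs h w om = om ∨ rep cs h w om = -om ∨ rep cs h w om = om' := by
  -- the values of the coweight
  have hv : ∀ i, pairing A i (rep cs h w om) = rep cs h w⁻¹ (sr i) 5 := by
    intro i
    rw [← bf_sr_right h, ← bf_rep (cs := cs) (h := h) (symm h) w⁻¹, rep_inv_apply]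
    rw [bf_eq h]
    exact bf_om _
  have hn : ∀ i, i ≠ 5 → 0 ≤ pairing A i (rep cs h w om) := fun i hi => by
    rw [hv]; exact h1 i hi 5
  have h6' : rep cs h w⁻¹ (sr 6) = sr 6 := by
    conv_lhs => rw [← h6]
    rw [rep_inv_apply]
  have he : ∀ i, row i 6 = 0 → Even (pairing A i (rep cs h w om)) := by
    intro i hi
    rw [hv]
    have h2 : bf A (rep cs h w⁻¹ (sr i)) (sr 6) = 0 := by
      rw [← h6', bf_rep (symm h), bf_sr_left, pairing_six h, hi]
    rw [bf_sr_right h, pairing_eq h, (pairing_row _).2.2.2.2.2.2] at h2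
    exact ⟨rep cs h w⁻¹ (sr i) 6, by omega⟩
  have hs : pairing A 6 (rep cs h w om) = 0 := by
    rw [hv, h6']; decide
  have hq : bf A (rep cs h w om) (rep cs h w om) = 4 := by
    rw [bf_rep (symm h), bf_eq h, bf_om]; decide
  rw [bf_eq h] at hq
  rw [pairing_eq h] at hs
  simp only [pairing_eq h] at hn he
  set s := rep cs h w om with hsdef
  obtain ⟨p0, p1, p2, p3, p4, p5, p6⟩ := pairing_row s
  have hq' : qf (s 0) (s 1) (s 2) (s 3) (s 4) (s 5) (s 6) = 4 := by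
    rw [← hq]
    unfold bf qf
    rw [Fin.sum_univ_seven, p0, p1, p2, p3, p4, p5, p6]
  have hc := cls (s 0) (s 1) (s 2) (s 3) (s 4) (s 5) (s 6) hq' (p0 ▸ hn 0 (by decide)) (p0 ▸ he 0 (by decide))
    (p1 ▸ hn 1 (by decide)) (p1 ▸ he 1 (by decide)) (p2 ▸ hn 2 (by decide)) (p2 ▸ he 2 (by decide))
    (p3 ▸ hn 3 (by decide)) (p3 ▸ he 3 (by decide)) (p4 ▸ hn 4 (by decide)) (p4 ▸ he 4 (by decide)) (p6 ▸ hs)
  rcases hc with ⟨a0, a1, a2, a3, a4, a5, a6⟩ | ⟨a0, a1, a2, a3, a4, a5, a6⟩ | ⟨a0, a1, a2, a3, a4, a5, a6⟩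
  · left
    funext i
    fin_cases i <;> simp [om, a0, a1, a2, a3, a4, a5, a6]
  · right; left
    funext i
    fin_cases i <;> simp [om, a0, a1, a2, a3, a4, a5, a6]
  · right; right
    funext i
    fin_cases i <;> simp [om', a0, a1, a2, a3, a4, a5, a6]

/-- **At most three minimal representatives of the double cosets of `W_J` fix `α₇`.** -/
theorem card_le_three [Finite W] (h : IsCartan CoxeterMatrix.E₇ A) {S : Finset W}
    (hS : ∀ w ∈ S, (∀ i, i ≠ 5 → 0 ≤ rep cs h w⁻¹ (sr i)) ∧ (∀ i, i ≠ 5 → 0 ≤ rep cs h w (sr i)) ∧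
      rep cs h w (sr 6) = sr 6) : S.card ≤ 3 := by
  classical
  have h1 : S.card ≤ ({om, -om, om'} : Finset (Fin 7 → ℤ)).card := by
    refine Finset.card_le_card_of_injOn (fun w => rep cs h w om) ?_ ?_
    · intro w hw
      obtain ⟨h1, h2, h3⟩ := hS w hw
      rcases rep_om h h1 h3 with h4 | h4 | h4
      · simp [h4]
      · simp [h4]
      · simp [h4]
    · intro w hw w' hw' he
      refine min_unique (J := {i | i ≠ 5}) (dom_om h) ?_ (fun i hi => (hS w hw).2.1 i hi)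
        (fun i hi => (hS w' hw').2.1 i hi) he
      intro i hi
      rw [pairing_eq h, pairing_om] at hi
      intro h5
      rw [if_pos h5] at hi
      exact one_ne_zero hi
  exact h1.trans Finset.card_le_three

end seven

end Cfsg.Agent.H497.Gow
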