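import Cfsg.Agent.H497.Gow.ChevNode
import Cfsg.Agent.H497.Gow.CombSeven
import Cfsg.Agent.H650.GowChev

/-!
# S4913: the groups `E₇(q)`, `q` even (helper497)
-/

set_option autoImplicit false

namespace Cfsg.Agent.H497.Gow

open CoxeterSystem Cfsg.Agent.ChevalleyStructure.CoxeterGeom Cfsg.Agent.Tits.Roots Cfsg.Agent.Tits.Core
  Cfsg.Agent.H627.Gow Cfsg.Agent.H53.HC Cfsg.Agent.H636.Gow Cfsg.Agent.Nodes.RGDChev Cfsg.Agent.H650.GowChev
open Cfsg.Lie Cfsg.Agent.ChevalleyStructure.CoxeterGeomTypes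

theorem m7_six : ∀ i : Fin 7, i ≠ 6 → i ≠ 5 → m7 6 i = 2 := by decide +kernel

/-- **`E₇(q)`, `q` even.** -/
theorem e_seven (F : Type*) [Field F] [Fintype F] [CharP F 2] : RatOdd ↥(chevE7.group F) := by
  by_cases h3 : 3 ∣ Fintype.card F - 1
  · exact ratOdd_one_mod h3 chevE7 (by simp)
  · have hp := isType7
    let cs : CoxeterSystem CoxeterMatrix.E₇ CoxeterMatrix.E₇.Group := CoxeterMatrix.E₇.toCoxeterSystem
    have := finite_W hp cs
    refine ratOdd_chev hp cs (k := 6) (K' := {i | i ≠ 5 ∧ i ≠ 6}) (by rw [Nat.card_eq_fintype_card]; exact h3) ?_ ?_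
    · rintro i hi j ⟨hj5, hj6⟩
      rw [Set.mem_singleton_iff] at hi
      subst hi
      have h1 : cartanOf chevE7 7 6 j = 0 := by
        rw [entry hp.isCartan, if_neg hj6.symm, if_neg (by rw [m7_six j hj6 hj5]; decide)]
      exact ⟨hj6.symm, h1, (symm hp.isCartan j 6).trans h1⟩
    · intro S hS
      refine card_le_three (cs := cs) hp.isCartan fun w hw => ?_
      obtain ⟨⟨h1, h2⟩, h4⟩ := hS w hw
      have hmem : ∀ i : Fin 7, i ≠ 5 → i ∈ ({6} ∪ {i | i ≠ 5 ∧ i ≠ 6} : Set (Fin 7)) := by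
        intro i hi
        by_cases h6 : i = 6
        · exact Or.inl h6
        · exact Or.inr ⟨hi, h6⟩
      exact ⟨fun i hi => h1 i (hmem i hi), fun i hi => h2 i (hmem i hi), h4⟩

end Cfsg.Agent.H497.Gow
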